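import Mathlib.CategoryTheory.Triangulated.Functor
import Mathlib.CategoryTheory.Adjunction.FullyFaithful
import Mathlib.CategoryTheory.Triangulated.Yoneda

/-!
# Full faithfulness tested on a spanning class
-/

set_option autoImplicit false
set_option linter.style.haveILetI false
set_option linter.unusedSectionVars false

universe v u v' u'

open CategoryTheory CategoryTheory.Limits CategoryTheory.Pretriangulated

namespace Groth.Agent.H83.FullFaith

variable {C : Type u} [Category.{v} C] [HasZeroObject C] [HasShift C ℤ] [Preadditive C]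
  [∀ n : ℤ, (shiftFunctor C n).Additive] [Pretriangulated C]
  {D : Type u'} [Category.{v'} D] [HasShift D ℤ] (F : C ⥤ D) [F.CommShift ℤ]

/-- `F` is bijective on morphisms from `A` to `B`. -/
def Bij (A B : C) : Prop := Function.Bijective (fun f : A ⟶ B => F.map f)

variable {F}

theorem Bij.of_iso {A B A' B' : C} (h : Bij F A B) (a : A ≅ A') (b : B ≅ B') : Bij F A' B' := by
  refine ⟨fun f g hfg => ?_, fun φ => ?_⟩
  · have h1 : a.hom ≫ f ≫ b.inv = a.hom ≫ g ≫ b.inv := h.1 (by
      change F.map (a.hom ≫ f ≫ b.inv) = F.map (a.hom ≫ g ≫ b.inv)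
      simp only [Functor.map_comp]
      exact congrArg (fun t => F.map a.hom ≫ t ≫ F.map b.inv) hfg)
    exact (cancel_mono b.inv).1 ((cancel_epi a.hom).1 h1)
  · obtain ⟨f, hf⟩ := h.2 (F.map a.hom ≫ φ ≫ F.map b.inv)
    change F.map f = _ at hf
    refine ⟨a.inv ≫ f ≫ b.hom, ?_⟩
    change F.map (a.inv ≫ f ≫ b.hom) = φ
    simp only [Functor.map_comp, hf, Category.assoc, Iso.map_inv_hom_id_assoc, Iso.map_inv_hom_id,
      Category.comp_id]

theorem Bij.shift {A B : C} (h : Bij F A B) (j : ℤ) :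
    Bij F ((shiftFunctor C j).obj A) ((shiftFunctor C j).obj B) := by
  let c : ∀ Z : C, F.obj ((shiftFunctor C j).obj Z) ≅ (shiftFunctor D j).obj (F.obj Z) :=
    fun Z => (F.commShiftIso j).app Z
  have hn : ∀ f : A ⟶ B, F.map ((shiftFunctor C j).map f) ≫ (c B).hom =
      (c A).hom ≫ (shiftFunctor D j).map (F.map f) := fun f => (F.commShiftIso j).hom.naturality f
  refine ⟨fun f g hfg => ?_, fun φ => ?_⟩
  · obtain ⟨f', rfl⟩ := (shiftFunctor C j).map_surjective f
    obtain ⟨g', rfl⟩ := (shiftFunctor C j).map_surjective g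
    refine congrArg (shiftFunctor C j).map (h.1 ((shiftFunctor D j).map_injective
      ((cancel_epi (c A).hom).1 ?_)))
    change (c A).hom ≫ (shiftFunctor D j).map (F.map f') = (c A).hom ≫ (shiftFunctor D j).map (F.map g')
    rw [← hn, ← hn]
    exact congrArg (· ≫ (c B).hom) hfg
  · obtain ⟨ψ, hψ⟩ := (shiftFunctor D j).map_surjective ((c A).inv ≫ φ ≫ (c B).hom)
    obtain ⟨f, rfl⟩ := h.2 ψ
    refine ⟨(shiftFunctor C j).map f, (cancel_mono (c B).hom).1 ?_⟩
    exact (hn f).trans (by rw [hψ, Iso.hom_inv_id_assoc])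

variable (F)
variable (P : C → Prop) (hPs : ∀ A, P A → ∀ i : ℤ, P ((shiftFunctor C i).obj A))

include hPs in
/-- A morphism inducing bijections on maps into the class is invertible. -/
theorem isIso_of_precomp (hl : ∀ W : C, (∀ A, P A → ∀ φ : W ⟶ A, φ = 0) → IsZero W)
    {A B : C} (f : A ⟶ B) (h : ∀ Z, P Z → Function.Bijective fun g : B ⟶ Z => f ≫ g) : IsIso f := by
  obtain ⟨W, g, d, hT⟩ := distinguished_cocone_triangle f
  refine (Triangle.isZero₃_iff_isIso₁ _ hT).1 (hl W fun Z hZ φ => ?_)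
  have h₁ : g ≫ φ = 0 := (h Z hZ).1 (by
    change f ≫ g ≫ φ = f ≫ 0
    have hz : f ≫ g = 0 := comp_distTriang_mor_zero₁₂ _ hT
    rw [← Category.assoc, hz, zero_comp, comp_zero])
  obtain ⟨a, ha⟩ := Triangle.yoneda_exact₂ _ (rot_of_distTriang _ hT) φ h₁
  let e := (shiftFunctorCompIsoId C (-1 : ℤ) 1 (by omega)).app Z
  obtain ⟨a', ha'⟩ := (shiftFunctor C (1 : ℤ)).map_surjective (a ≫ e.inv)
  obtain ⟨b, hb⟩ := (h _ (hPs Z hZ (-1))).2 a'
  change φ = d ≫ a at ha
  have : a = (shiftFunctor C (1 : ℤ)).map f ≫ (shiftFunctor C (1 : ℤ)).map b ≫ e.hom := by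
    rw [← (shiftFunctor C (1 : ℤ)).map_comp_assoc, show f ≫ b = a' from hb]
    exact ((congrArg (· ≫ e.hom) ha').trans ((Category.assoc _ _ _).trans
      ((congrArg (a ≫ ·) e.inv_hom_id).trans (Category.comp_id _)))).symm
  have hz : d ≫ (shiftFunctor C (1 : ℤ)).map f = 0 := comp_distTriang_mor_zero₃₁ _ hT
  rw [ha, this, ← Category.assoc, hz, zero_comp]

include hPs in
/-- A morphism inducing bijections on maps out of the class is invertible. -/
theorem isIso_of_postcomp (hr : ∀ W : C, (∀ A, P A → ∀ φ : A ⟶ W, φ = 0) → IsZero W)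
    {A B : C} (f : A ⟶ B) (h : ∀ Z, P Z → Function.Bijective fun g : Z ⟶ A => g ≫ f) : IsIso f := by
  obtain ⟨W, g, d, hT⟩ := distinguished_cocone_triangle f
  refine (Triangle.isZero₃_iff_isIso₁ _ hT).1 (hr W fun Z hZ φ => ?_)
  have hd : φ ≫ d = 0 := by
    let e := (shiftFunctorCompIsoId C (-1 : ℤ) 1 (by omega)).app Z
    obtain ⟨a', ha'⟩ := (shiftFunctor C (1 : ℤ)).map_surjective (e.hom ≫ φ ≫ d)
    have hz : d ≫ (shiftFunctor C (1 : ℤ)).map f = 0 := comp_distTriang_mor_zero₃₁ _ hT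
    have h0 : a' = 0 := (h _ (hPs Z hZ (-1))).1 (by
      change a' ≫ f = 0 ≫ f
      refine (shiftFunctor C (1 : ℤ)).map_injective ?_
      rw [zero_comp, Functor.map_comp, ha', Functor.map_zero, Category.assoc, Category.assoc, hz,
        comp_zero, comp_zero])
    rw [h0, Functor.map_zero] at ha'
    exact (cancel_epi e.hom).1 (ha'.symm.trans comp_zero.symm)
  obtain ⟨a, ha⟩ := Triangle.coyoneda_exact₃ _ hT φ hd
  obtain ⟨b, hb⟩ := (h Z hZ).2 a
  change φ = a ≫ g at ha
  rw [ha, ← hb]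
  refine (Category.assoc _ _ _).trans ?_
  exact (congrArg (b ≫ ·) (comp_distTriang_mor_zero₁₂ _ hT)).trans comp_zero

include hPs in
theorem full_faithful (hl : ∀ W : C, (∀ A, P A → ∀ φ : W ⟶ A, φ = 0) → IsZero W)
    (hr : ∀ W : C, (∀ A, P A → ∀ φ : A ⟶ W, φ = 0) → IsZero W)
    (hbij : ∀ A B, P A → P B → Bij F A B) {L R : D ⥤ C} (adjL : L ⊣ F) (adjR : F ⊣ R) :
    F.Full ∧ F.Faithful := by
  have h1 : ∀ A, P A → ∀ B, Bij F A B := by
    intro A hA
    have key : ∀ B (f : A ⟶ B), (adjL.homEquiv _ _).symm (F.map f) = adjL.counit.app A ≫ f := fun B f => by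
      rw [Adjunction.homEquiv_counit]
      exact adjL.counit.naturality f
    haveI : IsIso (adjL.counit.app A) := isIso_of_precomp P hPs hl _ fun Z hZ => by
      have e : (fun g : A ⟶ Z => adjL.counit.app A ≫ g) =
          (adjL.homEquiv (F.obj A) Z).symm ∘ fun g : A ⟶ Z => F.map g := funext fun f => (key Z f).symm
      exact (congrArg Function.Bijective e).mpr
        ((adjL.homEquiv (F.obj A) Z).symm.bijective.comp (hbij A Z hA hZ))
    intro B
    have hb : Function.Bijective fun f : A ⟶ B => adjL.counit.app A ≫ f :=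
      ⟨fun f g h => (cancel_epi _).1 h, fun g => ⟨inv (adjL.counit.app A) ≫ g, IsIso.hom_inv_id_assoc _ _⟩⟩
    have e : (fun f : A ⟶ B => F.map f) =
        (adjL.homEquiv (F.obj A) B) ∘ fun f : A ⟶ B => adjL.counit.app A ≫ f :=
      funext fun f => (Equiv.symm_apply_eq _).1 (key B f)
    exact (congrArg Function.Bijective e).mpr ((adjL.homEquiv (F.obj A) B).bijective.comp hb)
  have h2 : ∀ B, IsIso (adjR.unit.app B) := fun B => isIso_of_postcomp P hPs hr _ fun Z hZ => by
    have e : (fun g : Z ⟶ B => g ≫ adjR.unit.app B) =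
        (adjR.homEquiv Z (F.obj B)) ∘ fun g : Z ⟶ B => F.map g := by
      refine funext fun f => ?_
      rw [Function.comp_apply, Adjunction.homEquiv_unit]
      exact adjR.unit.naturality f
    exact (congrArg Function.Bijective e).mpr ((adjR.homEquiv Z (F.obj B)).bijective.comp (h1 Z hZ B))
  haveI := h2
  haveI : IsIso adjR.unit := NatIso.isIso_of_isIso_app _
  exact ⟨(adjR.fullyFaithfulLOfIsIsoUnit).full, (adjR.fullyFaithfulLOfIsIsoUnit).faithful⟩

end Groth.Agent.H83.FullFaith
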