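import Groth.Agent.H83.FullFaith.Abstract
import Groth.Agent.H56.PointHom.Rows
import Groth.Agent.S6720
import Groth.Agent.S6748
import Groth.Agent.S1005
import Groth.Agent.Lib.Perfect.Coherent
import Groth.Agent.Lib.DerivedOX.OpenSupport
import Groth.Agent.Lib.Modules.Support

/-!
# Residue fields of closed points as a spanning class
-/

set_option autoImplicit false
set_option linter.style.haveILetI false
set_option linter.unusedSectionVars false

universe u

open CategoryTheory CategoryTheory.Limits CategoryTheory.Pretriangulated AlgebraicGeometry DerivedCategory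

attribute [local instance] HasDerivedCategory.standard

namespace Groth.Agent.H83.FullFaith

open Groth.Agent.Lib

variable {k : Type u} [Field k] {X : Scheme.{u}} [X.Over (Spec (CommRingCat.of k))]
  [IsProper (X ↘ Spec (CommRingCat.of k))]

include k

theorem isPerfect_sky (hreg : Models.IsRegularScheme X) {x : X} (hx : IsClosed ({x} : Set X)) :
    DCoh.IsPerfect (DCoh.inD X (H56.PointHom.sky x)) := by
  haveI : IsLocallyNoetherian X :=
    LocallyOfFiniteType.isLocallyNoetherian (X ↘ Spec (CommRingCat.of k))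
  have hc := H56.PointHom.isCoh_sky hx
  let K := (singleFunctor X.Modules 0).obj (H56.PointHom.sky x)
  refine Groth.Agent.S1005.result X hreg K 0 0 fun i => ?_
  by_cases hi : i = 0
  · subst hi
    exact CohBasics.Closure.isCoh_of_iso ((singleFunctorCompHomologyFunctorIso _ 0).app _).symm hc
  · refine SchColim29.CohPush.isCoh_of_isZero ?_
    rcases lt_or_gt_of_ne hi with h | h
    · exact isZero_of_isGE K 0 i h
    · exact isZero_of_isLE K 0 i h

theorem isZero_of_hom_eq_zero (hreg : Models.IsRegularScheme X) (K : DCoh.D X) (hK : DCoh.IsPerfect K)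
    (h : (∀ x : X, IsClosed ({x} : Set X) → ∀ (i : ℤ) (φ : DCoh.inD X (H56.PointHom.sky x) ⟶ K⟦i⟧), φ = 0) ∨
      (∀ x : X, IsClosed ({x} : Set X) → ∀ (i : ℤ) (φ : K ⟶ (DCoh.inD X (H56.PointHom.sky x))⟦i⟧), φ = 0)) :
    IsZero K := by
  haveI : IsLocallyNoetherian X :=
    LocallyOfFiniteType.isLocallyNoetherian (X ↘ Spec (CommRingCat.of k))
  haveI : CompactSpace X := QuasiCompact.compactSpace_of_compactSpace (X ↘ Spec (CommRingCat.of k))
  refine DerivedOX.OpenSupport.isZero_of_homology K fun n => ?_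
  have hc := Perfect.Coherent.isCohD_of_isPerfect hK n
  haveI := hc.2
  refine Modules.Support.support_eq_empty_iff.mp (Set.eq_empty_iff_forall_notMem.2 fun y hy => ?_)
  obtain ⟨x, hxy, hx⟩ := IsClosed.exists_closed_singleton (Modules.Support.isClosed_support (DCoh.HD K n)) ⟨y, hy⟩
  obtain ⟨U, hxU, hU⟩ : ∃ U : X.Opens, x ∈ U ∧ ∀ (i : ℤ) (z : X), z ∈ U → z ∉ CohB1.support (DCoh.HD K i) := by
    rcases h with h | h
    · exact (Groth.Agent.S6720.result k X hreg x hx K hK).1 (h x hx)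
    · exact (Groth.Agent.S6720.result k X hreg x hx K hK).2 (h x hx)
  exact hU n x hxU hxy

/-- The residue field of a closed point as a perfect object. -/
noncomputable def ptP (hreg : Models.IsRegularScheme X) {x : X} (hx : IsClosed ({x} : Set X)) :
    (SGA6.perfP X).FullSubcategory :=
  ⟨DCoh.inD X (H56.PointHom.sky x), isPerfect_sky (k := k) hreg hx⟩

/-- Shifted residue fields of closed points. -/
def IsPt [(SGA6.perfP X).IsTriangulated] (hreg : Models.IsRegularScheme X) (A : (SGA6.perfP X).FullSubcategory) : Prop :=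
  ∃ (x : X) (hx : IsClosed ({x} : Set X)) (i : ℤ),
    Nonempty (A ≅ (shiftFunctor ((SGA6.perfP X).FullSubcategory) i).obj (ptP (k := k) hreg hx))

variable [(SGA6.perfP X).IsTriangulated]

theorem isPt_shift (hreg : Models.IsRegularScheme X) (A : (SGA6.perfP X).FullSubcategory)
    (hA : IsPt (k := k) hreg A) (i : ℤ) :
    IsPt (k := k) hreg ((shiftFunctor ((SGA6.perfP X).FullSubcategory) i).obj A) := by
  obtain ⟨x, hx, j, ⟨e⟩⟩ := hA
  exact ⟨x, hx, j + i, ⟨(shiftFunctor _ i).mapIso e ≪≫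
    ((shiftFunctorAdd' _ j i (j + i) rfl).app _).symm⟩⟩

theorem isZero_of_ι {W : (SGA6.perfP X).FullSubcategory} (h : IsZero W.obj) : IsZero W := by
  rw [IsZero.iff_id_eq_zero] at h ⊢
  exact ObjectProperty.hom_ext _ h

theorem hl (hreg : Models.IsRegularScheme X) (W : (SGA6.perfP X).FullSubcategory)
    (h : ∀ A, IsPt (k := k) hreg A → ∀ φ : W ⟶ A, φ = 0) : IsZero W := by
  refine isZero_of_ι (k := k) (isZero_of_hom_eq_zero (k := k) hreg W.obj W.property (Or.inr fun x hx i φ => ?_))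
  let A := (shiftFunctor ((SGA6.perfP X).FullSubcategory) i).obj (ptP (k := k) hreg hx)
  let c : A.obj ≅ (DCoh.inD X (H56.PointHom.sky x))⟦i⟧ :=
    ((SGA6.perfP X).ι.commShiftIso i).app (ptP (k := k) hreg hx)
  have h0 := congrArg (fun t => t.hom) (h A ⟨x, hx, i, ⟨Iso.refl _⟩⟩ (ObjectProperty.homMk (φ ≫ c.inv)))
  exact (cancel_mono c.inv).1 ((show φ ≫ c.inv = 0 from h0).trans zero_comp.symm)

theorem hr (hreg : Models.IsRegularScheme X) (W : (SGA6.perfP X).FullSubcategory)
    (h : ∀ A, IsPt (k := k) hreg A → ∀ φ : A ⟶ W, φ = 0) : IsZero W := by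
  refine isZero_of_ι (k := k) (isZero_of_hom_eq_zero (k := k) hreg W.obj W.property (Or.inl fun x hx i φ => ?_))
  let A := (shiftFunctor ((SGA6.perfP X).FullSubcategory) (-i)).obj (ptP (k := k) hreg hx)
  let c : A.obj ≅ (DCoh.inD X (H56.PointHom.sky x))⟦-i⟧ :=
    ((SGA6.perfP X).ι.commShiftIso (-i)).app (ptP (k := k) hreg hx)
  let e := (shiftFunctorCompIsoId (DCoh.D X) i (-i) (by omega)).app W.obj
  have h0 : c.hom ≫ φ⟦-i⟧' ≫ e.hom = 0 :=
    congrArg (fun t => t.hom) (h A ⟨x, hx, -i, ⟨Iso.refl _⟩⟩ (ObjectProperty.homMk (c.hom ≫ φ⟦-i⟧' ≫ e.hom)))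
  refine (shiftFunctor (DCoh.D X) (-i)).map_injective ?_
  rw [Functor.map_zero]
  exact (cancel_mono e.hom).1 (((cancel_epi c.hom).1 (h0.trans comp_zero.symm)).trans zero_comp.symm)

theorem full_faithful_of_points (hreg : Models.IsRegularScheme X) {Y : Scheme.{u}}
    [Y.Over (Spec (CommRingCat.of k))] [IsProper (Y ↘ Spec (CommRingCat.of k))]
    [(SGA6.perfP Y).IsTriangulated]
    (F : (SGA6.perfP X).FullSubcategory ⥤ (SGA6.perfP Y).FullSubcategory) [F.Additive] [F.Linear k]
    [F.CommShift ℤ] [F.IsTriangulated]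
    (h : ∀ (x x' : X) (hx : IsClosed ({x} : Set X)) (hx' : IsClosed ({x'} : Set X)) (i : ℤ),
      Bij F (ptP (k := k) hreg hx)
        ((shiftFunctor ((SGA6.perfP X).FullSubcategory) i).obj (ptP (k := k) hreg hx'))) :
    F.Full ∧ F.Faithful := by
  obtain ⟨h₁, h₂⟩ := Groth.Agent.S6748.result k X Y hreg F
  haveI := h₁
  haveI := h₂
  refine full_faithful F (IsPt (k := k) hreg) (isPt_shift hreg) (hl hreg) (hr hreg) ?_
    (Adjunction.ofIsRightAdjoint F) (Adjunction.ofIsLeftAdjoint F)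
  rintro A B ⟨x, hx, i, ⟨a⟩⟩ ⟨x', hx', j, ⟨b⟩⟩
  exact ((h x x' hx hx' (j - i)).shift i).of_iso a.symm
    (((shiftFunctorAdd' _ (j - i) i j (by omega)).app _).symm ≪≫ b.symm)

end Groth.Agent.H83.FullFaith
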